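import Mathlib
import Groth.Prelude.Def_W4stkremschemesLRS

/-!
# Factoring through a closed immersion of locally ringed spaces

If `i : Z ⟶ X` is a topological embedding with `O_X → i_* O_Z` locally surjective, a morphism
`f : Y ⟶ X` whose image lies in `i` and which kills the kernel factors uniquely through `i`.
-/

universe u

open AlgebraicGeometry CategoryTheory Opposite TopologicalSpace

namespace Groth.Agent.LRSImmLib

variable {Z X Y : LocallyRingedSpace.{u}} (i : Z ⟶ X) (gb : Y.toTopCat ⟶ Z.toTopCat)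
  (fc : X.presheaf ⟶ (TopCat.Presheaf.pushforward CommRingCat (gb ≫ i.base)).obj Y.presheaf)

lemma pre_mono {V V' : Opens Z.toTopCat} (h : V ≤ V') :
    (Opens.map gb).obj V ≤ (Opens.map gb).obj V' := fun _ hy => h hy

/-- Pulling back sections of `X` over `W` to `Y` over `f ⁻¹ W`. -/
def pull (W : Opens X.toTopCat) :
    X.presheaf.obj (op W) ⟶ Y.presheaf.obj (op ((Opens.map gb).obj ((Opens.map i.base).obj W))) :=
  fc.app (op W)

lemma pull_res {W W' : Opens X.toTopCat} (h : W' ≤ W) (a : X.presheaf.obj (op W)) :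
    pull i gb fc W' (X.presheaf.map (homOfLE h).op a) =
      Y.presheaf.map (homOfLE (pre_mono gb fun _ hz => h hz)).op (pull i gb fc W a) :=
  NatTrans.naturality_apply fc (homOfLE h).op a

lemma push_res {W W' : Opens X.toTopCat} (h : W' ≤ W) (a : X.presheaf.obj (op W)) :
    i.c.app (op W') (X.presheaf.map (homOfLE h).op a) =
      Z.presheaf.map (homOfLE (show (Opens.map i.base).obj W' ≤ (Opens.map i.base).obj W from
        fun _ hz => h hz)).op (i.c.app (op W) a) :=
  NatTrans.naturality_apply i.c (homOfLE h).op a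

lemma res_res {T : TopCat.{u}} (F : TopCat.Presheaf CommRingCat.{u} T) {U U' U'' : Opens T}
    (h : U'' ≤ U') (h' : U' ≤ U) (x : F.obj (op U)) :
    F.map (homOfLE h).op (F.map (homOfLE h').op x) = F.map (homOfLE (h.trans h')).op x := by
  rw [← ConcreteCategory.comp_apply, ← Functor.map_comp]; rfl

/-- `fc` kills the kernel of `i`. -/
def Kills : Prop :=
  ∀ (W : Opens X.toTopCat) (a : X.presheaf.obj (op W)), i.c.app (op W) a = 0 →
    pull i gb fc W a = 0

/-- `t` is locally the image of `s`. -/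
def Loc (V : Opens Z.toTopCat) (s : Z.presheaf.obj (op V))
    (t : Y.presheaf.obj (op ((Opens.map gb).obj V))) : Prop :=
  ∀ y : Y.toTopCat, gb y ∈ V → ∃ (W : Opens X.toTopCat) (_ : i.base (gb y) ∈ W)
    (h : (Opens.map i.base).obj W ≤ V) (a : X.presheaf.obj (op W)),
    i.c.app (op W) a = Z.presheaf.map (homOfLE h).op s ∧
      pull i gb fc W a = Y.presheaf.map (homOfLE (pre_mono gb h)).op t

variable {i gb fc}

lemma eq_of_kills (hk : Kills i gb fc) {W : Opens X.toTopCat} {a a' : X.presheaf.obj (op W)}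
    (h : i.c.app (op W) a = i.c.app (op W) a') : pull i gb fc W a = pull i gb fc W a' := by
  have := hk W (a - a') (by rw [map_sub, h, sub_self])
  rw [map_sub, sub_eq_zero] at this
  exact this

lemma Loc.shrink {V : Opens Z.toTopCat} {s : Z.presheaf.obj (op V)}
    {t : Y.presheaf.obj (op ((Opens.map gb).obj V))} (h : Loc i gb fc V s t)
    (y : Y.toTopCat) (hy : gb y ∈ V) (W0 : Opens X.toTopCat) (hy0 : i.base (gb y) ∈ W0) :
    ∃ (W : Opens X.toTopCat) (_ : i.base (gb y) ∈ W) (_ : W ≤ W0)
      (h : (Opens.map i.base).obj W ≤ V) (a : X.presheaf.obj (op W)),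
      i.c.app (op W) a = Z.presheaf.map (homOfLE h).op s ∧
        pull i gb fc W a = Y.presheaf.map (homOfLE (pre_mono gb h)).op t := by
  obtain ⟨W, hW, hle, a, ha, ha'⟩ := h y hy
  refine ⟨W ⊓ W0, ⟨hW, hy0⟩, inf_le_right, fun z hz => hle hz.1,
    X.presheaf.map (homOfLE inf_le_left).op a, ?_, ?_⟩
  · rw [push_res, ha, ← ConcreteCategory.comp_apply, ← Functor.map_comp]; rfl
  · rw [pull_res, ha', ← ConcreteCategory.comp_apply, ← Functor.map_comp]; rfl

lemma Loc.unique (hk : Kills i gb fc) {V : Opens Z.toTopCat} {s : Z.presheaf.obj (op V)}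
    {t t' : Y.presheaf.obj (op ((Opens.map gb).obj V))}
    (h : Loc i gb fc V s t) (h' : Loc i gb fc V s t') : t = t' := by
  refine TopCat.Presheaf.IsSheaf.section_ext Y.IsSheaf fun y hy => ?_
  obtain ⟨W', hyW', hle', a', ha', hb'⟩ := h' y hy
  obtain ⟨W, hyW, hWW', hle, a, ha, hb⟩ := h.shrink y hy W' hyW'
  refine ⟨(Opens.map gb).obj ((Opens.map i.base).obj W), pre_mono gb hle, hyW, ?_⟩
  have h1 : i.c.app (op W) (X.presheaf.map (homOfLE hWW').op a') = i.c.app (op W) a := by
    rw [push_res, ha', ha, ← ConcreteCategory.comp_apply, ← Functor.map_comp]; rfl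
  have h2 := eq_of_kills hk h1
  rw [pull_res, hb', hb, ← ConcreteCategory.comp_apply, ← Functor.map_comp] at h2
  exact h2.symm

lemma exists_loc (hk : Kills i gb fc) (hind : Topology.IsInducing i.base)
    (hsurj : TopCat.Presheaf.IsLocallySurjective i.c)
    (V : Opens Z.toTopCat) (s : Z.presheaf.obj (op V)) : ∃ t, Loc i gb fc V s t := by
  obtain ⟨W0, rfl⟩ : ∃ W0, (Opens.map i.base).obj W0 = V := by
    obtain ⟨W0, hW0, e⟩ := hind.isOpen_iff.mp V.isOpen
    exact ⟨⟨W0, hW0⟩, Opens.ext e⟩
  let ι := {p : Σ W : Opens X.toTopCat, X.presheaf.obj (op W) //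
    ∃ h : p.1 ≤ W0, i.c.app (op p.1) p.2 =
      Z.presheaf.map (homOfLE (show (Opens.map i.base).obj p.1 ≤ (Opens.map i.base).obj W0 from
        fun _ hz => h hz)).op s}
  let U : ι → Opens Y.toTopCat := fun p => (Opens.map gb).obj ((Opens.map i.base).obj p.1.1)
  let sf : ∀ p : ι, Y.presheaf.obj (op (U p)) := fun p => pull i gb fc p.1.1 p.1.2
  have hU : ∀ p : ι, U p ≤ (Opens.map gb).obj ((Opens.map i.base).obj W0) :=
    fun p => pre_mono gb fun _ hz => p.2.1 hz
  have hcompat : TopCat.Presheaf.IsCompatible Y.presheaf U sf := by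
    rintro ⟨⟨W, a⟩, hW, ha⟩ ⟨⟨W', a'⟩, hW', ha'⟩
    have h1 : i.c.app (op (W ⊓ W')) (X.presheaf.map (homOfLE inf_le_left).op a) =
        i.c.app (op (W ⊓ W')) (X.presheaf.map (homOfLE inf_le_right).op a') := by
      rw [push_res, push_res, ha, ha', ← ConcreteCategory.comp_apply, ← Functor.map_comp,
        ← ConcreteCategory.comp_apply, ← Functor.map_comp]
      rfl
    have h2 := eq_of_kills hk h1
    rw [pull_res, pull_res] at h2
    exact h2
  obtain ⟨t, ht, -⟩ := TopCat.Sheaf.existsUnique_gluing' Y.sheaf U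
    ((Opens.map gb).obj ((Opens.map i.base).obj W0)) (fun p => homOfLE (hU p)) (fun y hy => by
      obtain ⟨W, hW, ⟨a, ha⟩, hyW⟩ :=
        (TopCat.Presheaf.isLocallySurjective_iff _).mp hsurj W0 s (i.base (gb y)) hy
      exact Opens.mem_iSup.mpr ⟨⟨⟨W, a⟩, fun _ hx => hW hx, ha⟩, hyW⟩) sf hcompat
  refine ⟨t, fun y hy => ?_⟩
  obtain ⟨W, hW, ⟨a, ha⟩, hyW⟩ :=
    (TopCat.Presheaf.isLocallySurjective_iff _).mp hsurj W0 s (i.base (gb y)) hy
  exact ⟨W, hyW, fun _ hz => hW hz, a, ha, (ht ⟨⟨W, a⟩, fun _ hx => hW hx, ha⟩).symm⟩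

/-- The structure-sheaf component of the factorisation. -/
noncomputable def comap (hk : Kills i gb fc) (hind : Topology.IsInducing i.base)
    (hsurj : TopCat.Presheaf.IsLocallySurjective i.c) (V : Opens Z.toTopCat)
    (s : Z.presheaf.obj (op V)) : Y.presheaf.obj (op ((Opens.map gb).obj V)) :=
  (exists_loc hk hind hsurj V s).choose

lemma comap_loc (hk : Kills i gb fc) (hind : Topology.IsInducing i.base)
    (hsurj : TopCat.Presheaf.IsLocallySurjective i.c) (V : Opens Z.toTopCat)
    (s : Z.presheaf.obj (op V)) : Loc i gb fc V s (comap hk hind hsurj V s) :=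
  (exists_loc hk hind hsurj V s).choose_spec

lemma exists_nbhd (hind : Topology.IsInducing i.base) {V : Opens Z.toTopCat} {z : Z.toTopCat}
    (hz : z ∈ V) : ∃ W : Opens X.toTopCat, i.base z ∈ W ∧ (Opens.map i.base).obj W ≤ V := by
  obtain ⟨W0, hW0, e⟩ := hind.isOpen_iff.mp V.isOpen
  exact ⟨⟨W0, hW0⟩, (Set.ext_iff.mp e z).mpr hz, fun z' hz' => (Set.ext_iff.mp e z').mp hz'⟩

/-- The structure-sheaf map of the factorisation. -/
noncomputable def comapNat (hk : Kills i gb fc) (hind : Topology.IsInducing i.base)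
    (hsurj : TopCat.Presheaf.IsLocallySurjective i.c) :
    Z.presheaf ⟶ (TopCat.Presheaf.pushforward CommRingCat gb).obj Y.presheaf where
  app V := CommRingCat.ofHom
    { toFun := comap hk hind hsurj V.unop
      map_one' := (comap_loc hk hind hsurj _ _).unique hk fun y hy => by
        obtain ⟨W, hyW, hle⟩ := exists_nbhd hind hy
        exact ⟨W, hyW, hle, 1, by rw [map_one, map_one], by rw [map_one]; exact (map_one _).symm⟩
      map_zero' := (comap_loc hk hind hsurj _ _).unique hk fun y hy => by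
        obtain ⟨W, hyW, hle⟩ := exists_nbhd hind hy
        exact ⟨W, hyW, hle, 0, by rw [map_zero, map_zero],
          by rw [map_zero]; exact (map_zero _).symm⟩
      map_mul' := fun s s' => (comap_loc hk hind hsurj _ _).unique hk fun y hy => by
        obtain ⟨W', hyW', hle', a', ha', hb'⟩ := comap_loc hk hind hsurj _ s' y hy
        obtain ⟨W, hyW, hWW, hle, a, ha, hb⟩ := (comap_loc hk hind hsurj _ s).shrink y hy W' hyW'
        refine ⟨W, hyW, hle, a * X.presheaf.map (homOfLE hWW).op a', ?_, ?_⟩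
        · rw [map_mul, map_mul, push_res, ha, ha', ← ConcreteCategory.comp_apply,
            ← Functor.map_comp]
          rfl
        · have h2 := pull_res i gb fc hWW a'
          rw [hb', res_res] at h2
          rw [map_mul, hb, h2]
          exact (map_mul _ _ _).symm
      map_add' := fun s s' => (comap_loc hk hind hsurj _ _).unique hk fun y hy => by
        obtain ⟨W', hyW', hle', a', ha', hb'⟩ := comap_loc hk hind hsurj _ s' y hy
        obtain ⟨W, hyW, hWW, hle, a, ha, hb⟩ := (comap_loc hk hind hsurj _ s).shrink y hy W' hyW'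
        refine ⟨W, hyW, hle, a + X.presheaf.map (homOfLE hWW).op a', ?_, ?_⟩
        · rw [map_add, map_add, push_res, ha, ha', ← ConcreteCategory.comp_apply,
            ← Functor.map_comp]
          rfl
        · have h2 := pull_res i gb fc hWW a'
          rw [hb', res_res] at h2
          rw [map_add, hb, h2]
          exact (map_add _ _ _).symm }
  naturality := fun V V' h => by
    ext s
    refine (comap_loc hk hind hsurj V'.unop _).unique hk fun y hy => ?_
    obtain ⟨W0, hy0, hle0⟩ := exists_nbhd hind hy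
    obtain ⟨W, hyW, hWW, hle, a, ha, hb⟩ :=
      (comap_loc hk hind hsurj V.unop s).shrink y (h.unop.le hy) W0 hy0
    have hle' : (Opens.map i.base).obj W ≤ V'.unop := fun z hz => hle0 (hWW hz)
    refine ⟨W, hyW, hle', a, ?_, ?_⟩
    · show _ = Z.presheaf.map (homOfLE hle').op (Z.presheaf.map h s)
      rw [ha, ← ConcreteCategory.comp_apply, ← Functor.map_comp]; rfl
    · show _ = Y.presheaf.map (homOfLE (pre_mono gb hle')).op
        (Y.presheaf.map ((Opens.map gb).op.map h) (comap hk hind hsurj V.unop s))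
      rw [hb, ← ConcreteCategory.comp_apply, ← Functor.map_comp]; rfl

lemma comap_app (hk : Kills i gb fc) (hind : Topology.IsInducing i.base)
    (hsurj : TopCat.Presheaf.IsLocallySurjective i.c) (W : Opens X.toTopCat)
    (a : X.presheaf.obj (op W)) :
    comap hk hind hsurj ((Opens.map i.base).obj W) (i.c.app (op W) a) = pull i gb fc W a :=
  (comap_loc hk hind hsurj _ _).unique hk fun y hy => ⟨W, hy, le_rfl, a, by simp, by simp⟩

end Groth.Agent.LRSImmLib
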