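import Mathlib
import Groth.Prelude.Def_W4stkremschemesLRS

/-!
# The kernel of a closed immersion of a locally ringed space into a scheme is quasi-coherent
-/

universe u

open AlgebraicGeometry CategoryTheory Opposite TopologicalSpace

namespace Groth.Agent.LRSImmLib

variable {X : Scheme.{u}} {Z : LocallyRingedSpace.{u}} (i : Z ⟶ X.toLocallyRingedSpace)

/-- The stalk of the kernel of `O_X → i_* O_Z`. -/
noncomputable def kerStalk (x : X.toLocallyRingedSpace.toTopCat) :
    Ideal (X.toLocallyRingedSpace.presheaf.stalk x) :=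
  RingHom.ker ((TopCat.Presheaf.stalkFunctor CommRingCat x).map i.c).hom

/-- `germ` in the spelling of schemes. -/
noncomputable abbrev germX (U : X.Opens) (x : X) (hx : x ∈ U) :
    Γ(X, U) →+* X.presheaf.stalk x := (X.presheaf.germ U x hx).hom

lemma killed_iff (U : X.Opens) (s : Γ(X, U)) :
    i.c.app (op U) s = 0 ↔ ∀ (x : X) (hx : x ∈ U), germX U x hx s ∈ kerStalk i x := by
  constructor
  · intro h x hx
    rw [kerStalk, RingHom.mem_ker]
    refine (TopCat.Presheaf.stalkFunctor_map_germ_apply U x hx i.c s).trans ?_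
    rw [h, map_zero]; rfl
  · intro h
    refine TopCat.Presheaf.IsSheaf.section_ext
      (TopCat.Sheaf.pushforward_sheaf_of_sheaf i.base Z.IsSheaf) fun x hx => ?_
    have h0 : ((TopCat.Presheaf.pushforward CommRingCat i.base).obj Z.presheaf).germ U x hx
        (i.c.app (op U) s) =
        ((TopCat.Presheaf.pushforward CommRingCat i.base).obj Z.presheaf).germ U x hx 0 := by
      rw [map_zero]
      exact (TopCat.Presheaf.stalkFunctor_map_germ_apply U x hx i.c s).symm.trans
        (RingHom.mem_ker.mp (h x hx))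
    obtain ⟨W, hxW, i₁, i₂, e⟩ := TopCat.Presheaf.germ_eq _ x hx hx _ _ h0
    exact ⟨W, i₁.le, hxW, e⟩

lemma germX_res {U V : X.Opens} (h : V ≤ U) (x : X) (hx : x ∈ V) (s : Γ(X, U)) :
    germX V x hx (X.presheaf.map (homOfLE h).op s) = germX U x (h hx) s :=
  X.presheaf.germ_res_apply (homOfLE h) x hx s

/-- Near every point of an affine open there is a basic open on which the stalks of the kernel are
generated by killed elements of the coordinate ring. -/
lemma exists_basicOpen_gen (hi : LRSImm.KerLocallyGenerated i) {V : X.Opens} (hV : IsAffineOpen V)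
    (x : X) (hx : x ∈ V) :
    ∃ g : Γ(X, V), x ∈ X.basicOpen g ∧ ∀ (y : X) (hy : y ∈ X.basicOpen g),
      kerStalk i y ≤ Ideal.map (germX V y (X.basicOpen_le g hy))
        (⨅ (z : X) (hz : z ∈ X.basicOpen g),
          (kerStalk i z).comap (germX V z (X.basicOpen_le g hz))) := by
  obtain ⟨U, hxU, ι, s, hs0, hs⟩ := hi x
  obtain ⟨g, hgU, hxg⟩ := hV.exists_basicOpen_le (V := (U : X.Opens)) ⟨x, hxU⟩ hx
  refine ⟨g, hxg, fun y hy => ?_⟩
  have hgen := hs y (hgU hy)
  refine le_of_eq_of_le hgen.symm (Ideal.span_le.mpr ?_)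
  rintro _ ⟨j, rfl⟩
  haveI := hV.isLocalization_basicOpen g
  obtain ⟨⟨b, ⟨_, n, rfl⟩⟩, hb⟩ := IsLocalization.surj (Submonoid.powers g)
    (X.presheaf.map (homOfLE hgU).op (s j) : Γ(X, X.basicOpen g))
  have key : ∀ (z : X) (hz : z ∈ X.basicOpen g),
      germX U z (hgU hz) (s j) * germX V z (X.basicOpen_le g hz) (g ^ n) =
        germX V z (X.basicOpen_le g hz) b := by
    intro z hz
    have h1 := congrArg (germX (X.basicOpen g) z hz) hb
    rw [map_mul, germX_res] at h1
    erw [germX_res (X.basicOpen_le g), germX_res (X.basicOpen_le g)] at h1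
    exact h1
  have hu : IsUnit (germX V y (X.basicOpen_le g hy) (g ^ n)) := by
    rw [map_pow]; exact ((X.mem_basicOpen g y (X.basicOpen_le g hy)).mp hy).pow n
  refine (Ideal.mul_unit_mem_iff_mem _ hu).mp ?_
  show germX U y (hgU hy) (s j) * _ ∈ _
  rw [key y hy]
  refine Ideal.mem_map_of_mem _ ?_
  simp only [Submodule.mem_iInf, Ideal.mem_comap]
  intro z hz
  rw [← key z hz]
  exact Ideal.mul_mem_right _ _ ((killed_iff i U (s j)).mp (hs0 j) z (hgU hz))

/-- Key quasi-coherence statement: an element killed on `D(h)` is killed after multiplying by a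
power of `h`. -/
theorem exists_pow_mul_killed (hi : LRSImm.KerLocallyGenerated i) {V : X.Opens}
    (hV : IsAffineOpen V) (h a : Γ(X, V))
    (ha : i.c.app (op (X.basicOpen h)) (X.presheaf.map (homOfLE (X.basicOpen_le h)).op a) = 0) :
    ∃ N : ℕ, i.c.app (op V) (h ^ N * a) = 0 := by
  classical
  choose g hxg hg using fun x : V => exists_basicOpen_gen i hi hV x.1 x.2
  have hb : ∀ x : V, ∃ N : ℕ, ∀ (y : X) (hy : y ∈ X.basicOpen (g x)),
      germX V y (X.basicOpen_le _ hy) (h ^ N * a) ∈ kerStalk i y := by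
    intro x
    let K : Ideal Γ(X, V) := ⨅ (z : X) (hz : z ∈ X.basicOpen (g x)),
      (kerStalk i z).comap (germX V z (X.basicOpen_le _ hz))
    let Q : Ideal Γ(X, V) := Submodule.comap (LinearMap.mulRight Γ(X, V) a) K
    have hQ : g x * h ∈ Q.radical := by
      rw [Ideal.radical_eq_sInf]
      refine Ideal.mem_sInf.mpr ?_
      rintro P ⟨hQP, hP⟩
      by_contra hghP
      set p : PrimeSpectrum Γ(X, V) := ⟨P, hP⟩ with hp
      set y : X := hV.fromSpec p with hy
      have hyV : y ∈ V := by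
        have : y ∈ Set.range hV.fromSpec := ⟨p, rfl⟩
        rwa [IsAffineOpen.range_fromSpec] at this
      have hmem : ∀ r : Γ(X, V), r ∉ P → y ∈ X.basicOpen r := fun r hr => by
        show p ∈ hV.fromSpec ⁻¹ᵁ X.basicOpen r
        rw [hV.fromSpec_preimage_basicOpen]; exact hr
      have hyg : y ∈ X.basicOpen (g x) := hmem _ fun h' => hghP (P.mul_mem_right _ h')
      have hyh : y ∈ X.basicOpen h := hmem _ fun h' => hghP (P.mul_mem_left _ h')
      have haJ : germX V y hyV a ∈ kerStalk i y := by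
        have := (killed_iff i _ _).mp ha y hyh
        rwa [germX_res] at this
      have haK : germX V y hyV a ∈ Ideal.map (germX V y hyV) K := hg x y hyg haJ
      letI := X.presheaf.algebra_section_stalk ⟨y, hyV⟩
      haveI := hV.isLocalization_stalk ⟨y, hyV⟩
      have hpp : (hV.primeIdealOf ⟨y, hyV⟩) = p :=
        hV.fromSpec.isEmbedding.injective (hV.fromSpec_primeIdealOf ⟨y, hyV⟩)
      obtain ⟨⟨⟨k, hk⟩, c⟩, hkc⟩ :=
        (IsLocalization.mem_map_algebraMap_iff (hV.primeIdealOf ⟨y, hyV⟩).asIdeal.primeCompl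
          (X.presheaf.stalk y)).mp haK
      have hkc' : algebraMap Γ(X, V) (X.presheaf.stalk y) (a * c) =
          algebraMap Γ(X, V) (X.presheaf.stalk y) k := (map_mul _ _ _).trans hkc
      obtain ⟨c', hc'⟩ := (IsLocalization.eq_iff_exists
        (hV.primeIdealOf ⟨y, hyV⟩).asIdeal.primeCompl (X.presheaf.stalk y)).mp hkc'
      have hcc : (c' : Γ(X, V)) * c ∈ Q := by
        show (c' : Γ(X, V)) * c * a ∈ K
        rw [mul_assoc, mul_comm (c : Γ(X, V)) a, hc']
        exact K.mul_mem_left _ hk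
      have hprime := (hV.primeIdealOf ⟨y, hyV⟩).isPrime
      have hnot : (c' : Γ(X, V)) * c ∉ (hV.primeIdealOf ⟨y, hyV⟩).asIdeal :=
        (c' * c).2
      exact hnot (by have h3 := hQP hcc; have h4 : (hV.primeIdealOf ⟨y, hyV⟩).asIdeal = P := congrArg PrimeSpectrum.asIdeal hpp; exact (SetLike.ext_iff.mp h4 _).mpr h3)
    obtain ⟨N, hN⟩ := hQ
    refine ⟨N, fun y hy => ?_⟩
    have h1 : (g x * h) ^ N * a ∈ K := hN
    simp only [K, Submodule.mem_iInf, Ideal.mem_comap] at h1
    have h2 := h1 y hy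
    rw [mul_pow, mul_assoc, map_mul, map_pow] at h2
    exact (Ideal.unit_mul_mem_iff_mem _
      (((X.mem_basicOpen (g x) y (X.basicOpen_le _ hy)).mp hy).pow N)).mp h2
  choose N hN using hb
  obtain ⟨s, hs⟩ := hV.isCompact.elim_finite_subcover (fun x : V => (X.basicOpen (g x) : Set X))
    (fun x => (X.basicOpen (g x)).isOpen) (fun x hx => Set.mem_iUnion.mpr ⟨⟨x, hx⟩, hxg _⟩)
  refine ⟨s.sup N, (killed_iff i V _).mpr fun y hy => ?_⟩
  obtain ⟨x, hxs, hyx⟩ := Set.mem_iUnion₂.mp (hs hy)
  have hle : N x ≤ s.sup N := Finset.le_sup hxs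
  rw [← Nat.sub_add_cancel hle, pow_add, mul_assoc, map_mul]
  exact Ideal.mul_mem_left _ _ (hN x y hyx)

end Groth.Agent.LRSImmLib
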