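import Groth.Agent.LRSImmLib.Factor

/-!
# Universal property of closed immersions of locally ringed spaces
-/

universe u

open AlgebraicGeometry CategoryTheory Opposite TopologicalSpace

namespace Groth.Agent.LRSImmLib

variable {Z X Y : LocallyRingedSpace.{u}}

lemma range_subset_of_kills (i : Z ⟶ X) (hcl : IsClosed (Set.range i.base)) (f : Y ⟶ X)
    (hf : ∀ (U : Opens X.toTopCat) (s : X.presheaf.obj (op U)),
      i.c.app (op U) s = 0 → f.c.app (op U) s = 0) :
    Set.range f.base ⊆ Set.range i.base := by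
  rintro _ ⟨y, rfl⟩
  by_contra hy
  let U : Opens X.toTopCat := ⟨(Set.range i.base)ᶜ, hcl.isOpen_compl⟩
  have hU : (Opens.map i.base).obj U = ⊥ := eq_bot_iff.mpr fun z hz => (hz ⟨z, rfl⟩).elim
  have h1 : i.c.app (op U) 1 = 0 := by
    refine TopCat.Presheaf.IsSheaf.section_ext Z.IsSheaf fun z hz => ?_
    have : z ∈ (Opens.map i.base).obj U := hz
    rw [hU] at this
    exact this.elim
  have h2 := hf U 1 h1
  rw [map_one] at h2
  haveI : Nonempty ((Opens.map f.base).obj U) := ⟨⟨y, hy⟩⟩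
  haveI : Nontrivial (Y.presheaf.obj (op ((Opens.map f.base).obj U))) :=
    Y.component_nontrivial _
  exact one_ne_zero (α := Y.presheaf.obj (op ((Opens.map f.base).obj U))) h2

theorem exists_lift_of_base (i : Z ⟶ X) (hi : Topology.IsInducing i.base)
    (hsurj : TopCat.Presheaf.IsLocallySurjective i.c) (f : Y ⟶ X)
    (hf : ∀ (U : Opens X.toTopCat) (s : X.presheaf.obj (op U)),
      i.c.app (op U) s = 0 → f.c.app (op U) s = 0)
    (gb : Y.toTopCat ⟶ Z.toTopCat) (hb : gb ≫ i.base = f.base) :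
    ∃ g : Y ⟶ Z, g ≫ i = f := by
  obtain ⟨⟨fb, fc⟩, fp⟩ := f
  obtain rfl : gb ≫ i.base = fb := hb
  have hk : Kills i gb fc := fun W a ha => hf W a ha
  let gP : Y.toPresheafedSpace ⟶ Z.toPresheafedSpace :=
    ⟨gb, comapNat hk hi hsurj⟩
  refine ⟨⟨gP, fun y => ⟨fun b hb => ?_⟩⟩, ?_⟩
  · obtain ⟨V, hV, s, rfl⟩ := Z.presheaf.exists_germ_eq b
    obtain ⟨W, hyW, hle, a, ha, hb'⟩ := comap_loc hk hi hsurj V s y hV
    have h1 : gP.stalkMap y (Z.presheaf.germ V (gb y) hV s) =
        Y.presheaf.germ _ y hyW (pull i gb fc W a) := by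
      rw [hb']
      refine (PresheafedSpace.stalkMap_germ_apply gP V y hV s).trans ?_
      exact (Y.presheaf.germ_res_apply (homOfLE (pre_mono gb hle)) y hyW _).symm
    have h2 : IsUnit (X.presheaf.germ W (i.base (gb y)) hyW a) := by
      haveI := fp y
      refine (isUnit_map_iff (PresheafedSpace.Hom.stalkMap (⟨gb ≫ i.base, fc⟩ : PresheafedSpace.Hom _ _) y).hom _).mp ?_
      have h3 : IsUnit (Y.presheaf.germ _ y hyW (pull i gb fc W a)) := h1 ▸ hb
      exact (PresheafedSpace.stalkMap_germ_apply (⟨gb ≫ i.base, fc⟩ : PresheafedSpace.Hom Y.toPresheafedSpace X.toPresheafedSpace) W y hyW a).symm ▸ h3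
    have h4 := h2.map (i.stalkMap (gb y)).hom
    rw [LocallyRingedSpace.stalkMap_germ_apply i W (gb y) hyW a, ha,
      Z.presheaf.germ_res_apply] at h4
    exact h4
  · apply LocallyRingedSpace.Hom.ext'
    refine PresheafedSpace.ext _ _ rfl ?_
    ext W a
    refine Eq.trans ?_ (comap_app hk hi hsurj W a)
    simp
    rfl

theorem exists_lift (i : Z ⟶ X) (hi : Topology.IsClosedEmbedding i.base)
    (hsurj : TopCat.Presheaf.IsLocallySurjective i.c) (f : Y ⟶ X)
    (hf : ∀ (U : Opens X.toTopCat) (s : X.presheaf.obj (op U)),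
      i.c.app (op U) s = 0 → f.c.app (op U) s = 0) :
    ∃ g : Y ⟶ Z, g ≫ i = f := by
  choose gf hgf using fun y => range_subset_of_kills i hi.isClosed_range f hf ⟨y, rfl⟩
  refine exists_lift_of_base i hi.isInducing hsurj f hf (TopCat.ofHom ⟨gf, ?_⟩) ?_
  · rw [hi.isInducing.continuous_iff]
    show Continuous fun y => i.base (gf y)
    rw [funext hgf]
    exact f.base.hom.continuous
  · ext y
    exact hgf y

theorem lift_unique (i : Z ⟶ X) (hi : Topology.IsClosedEmbedding i.base)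
    (hsurj : TopCat.Presheaf.IsLocallySurjective i.c) {g g' : Y ⟶ Z} (h : g ≫ i = g' ≫ i) :
    g = g' := by
  obtain ⟨⟨gb, gc⟩, gp⟩ := g
  obtain ⟨⟨gb', gc'⟩, gp'⟩ := g'
  have hb : gb = gb' := by
    ext y
    exact hi.injective (congrArg (fun k : Y ⟶ X => k.base y) h)
  subst hb
  let G : Y.toPresheafedSpace ⟶ Z.toPresheafedSpace := ⟨gb, gc⟩
  let G' : Y.toPresheafedSpace ⟶ Z.toPresheafedSpace := ⟨gb, gc'⟩
  let I : Z.toPresheafedSpace ⟶ X.toPresheafedSpace := i.toHom
  have hP : G ≫ I = G' ≫ I :=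
    congrArg (fun k : Y ⟶ X => (k.toHom : Y.toPresheafedSpace ⟶ X.toPresheafedSpace)) h
  let fc : X.presheaf ⟶ (TopCat.Presheaf.pushforward CommRingCat (gb ≫ i.base)).obj Y.presheaf :=
    (G ≫ I).c
  have hpull : ∀ W a, pull i gb fc W a = gc.app _ (i.c.app (op W) a) := fun W a => rfl
  have hpull' : ∀ W a, pull i gb fc W a = gc'.app _ (i.c.app (op W) a) := fun W a => by
    have := PresheafedSpace.congr_app hP (op W)
    rw [hpull]
    simpa using! ConcreteCategory.congr_hom this a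
  have hk : Kills i gb fc := fun W a ha => by rw [hpull, ha, map_zero]
  have key : ∀ (c : Z.presheaf ⟶ (TopCat.Presheaf.pushforward CommRingCat gb).obj Y.presheaf),
      (∀ W a, pull i gb fc W a = c.app _ (i.c.app (op W) a)) → ∀ V s,
        Loc i gb fc V s (c.app (op V) s) := by
    intro c hc V s y hy
    obtain ⟨W0, hy0, hle0⟩ := exists_nbhd hi.isInducing hy
    obtain ⟨W, hW, ⟨a, ha⟩, hyW⟩ := (TopCat.Presheaf.isLocallySurjective_iff _).mp hsurj W0
      (Z.presheaf.map (homOfLE hle0).op s) (i.base (gb y)) hy0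
    have hle : (Opens.map i.base).obj W ≤ V := fun z hz => hle0 (hW hz)
    have ha' : i.c.app (op W) a = Z.presheaf.map (homOfLE hle).op s :=
      ha.trans (res_res Z.presheaf (fun z hz => hW hz) hle0 s)
    refine ⟨W, hyW, hle, a, ha', ?_⟩
    rw [hc, ha']
    exact NatTrans.naturality_apply c (homOfLE hle).op s
  have : gc = gc' := by
    ext V s
    exact (key gc hpull V s).unique hk (key gc' hpull' V s)
  subst this
  rfl

end Groth.Agent.LRSImmLib
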