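import Groth.Agent.LRSImmLib.Kernel
import Groth.Agent.LRSImmLib.Universal

/-!
# A closed immersion of a locally ringed space into a scheme is a closed subscheme
-/

universe u

open AlgebraicGeometry CategoryTheory Opposite TopologicalSpace

namespace Groth.Agent.LRSImmLib

variable {X : Scheme.{u}} {Z : LocallyRingedSpace.{u}} (i : Z ⟶ X.toLocallyRingedSpace)

lemma killed_res {U V : X.Opens} (h : V ≤ U) {s : Γ(X, U)} (hs : i.c.app (op U) s = 0) :
    i.c.app (op V) (X.presheaf.map (homOfLE h).op s) = 0 := by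
  refine (NatTrans.naturality_apply i.c (homOfLE h).op s).trans ?_
  rw [hs, map_zero]

/-- The ideal sheaf of a closed immersion of a locally ringed space into a scheme. -/
noncomputable def kerData (hi : LRSImm.KerLocallyGenerated i) : X.IdealSheafData where
  ideal V := RingHom.ker (i.c.app (op V.1)).hom
  map_ideal_basicOpen V f := by
    refine le_antisymm (Ideal.map_le_iff_le_comap.mpr fun s hs => ?_) fun x hx => ?_
    · exact killed_res i (X.basicOpen_le f) hs
    · haveI := V.2.isLocalization_basicOpen f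
      obtain ⟨⟨a, ⟨_, n, rfl⟩⟩, hb⟩ := IsLocalization.surj (Submonoid.powers f)
        (x : Γ(X, X.basicOpen f))
      have ha : i.c.app (op (X.basicOpen f)) (X.presheaf.map (homOfLE (X.basicOpen_le f)).op a) = 0 := by
        refine (congrArg _ hb.symm).trans ?_
        refine (map_mul (i.c.app (op (X.basicOpen f))).hom _ _).trans ?_
        rw [show (i.c.app (op (X.basicOpen f))).hom x = 0 from hx, zero_mul]
      obtain ⟨N, hN⟩ := exists_pow_mul_killed i hi V.2 f a ha
      refine (Ideal.mul_unit_mem_iff_mem _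
        ((IsLocalization.Away.algebraMap_isUnit (S := Γ(X, X.basicOpen f)) f).pow (n + N))).mp ?_
      rw [pow_add, ← map_pow, ← map_pow, ← mul_assoc]
      erw [hb]
      rw [mul_comm, ← map_mul]
      exact Ideal.mem_map_of_mem _ hN

variable {i} (hi : LRSImm.KerLocallyGenerated i)

lemma killed_iff_subschemeι (U : X.Opens) (s : Γ(X, U)) :
    i.c.app (op U) s = 0 ↔ (kerData i hi).subschemeι.app U s = 0 := by
  set I := kerData i hi with hI
  have hres : ∀ (V : X.Opens) (h : V ≤ U), I.subschemeι.app U s = 0 →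
      I.subschemeι.app V (X.presheaf.map (homOfLE h).op s) = 0 := by
    intro V h h0
    rw [← ConcreteCategory.comp_apply, I.subschemeι.naturality, ConcreteCategory.comp_apply, h0,
      map_zero]
  constructor
  · intro h
    refine TopCat.Presheaf.IsSheaf.section_ext I.subscheme.IsSheaf fun y hy => ?_
    obtain ⟨_, ⟨V, hV, rfl⟩, hyV, hVU⟩ :=
      X.isBasis_affineOpens.exists_subset_of_mem_open (show I.subschemeι y ∈ U from hy) U.isOpen
    have hVU' : V ≤ U := hVU
    refine ⟨I.subschemeι ⁻¹ᵁ V, fun z hz => hVU' hz, hyV, ?_⟩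
    rw [map_zero]
    refine (NatTrans.naturality_apply I.subschemeι.c (homOfLE hVU').op s).symm.trans ?_
    have : X.presheaf.map (homOfLE hVU').op s ∈ I.ideal ⟨V, hV⟩ := killed_res i hVU' h
    rw [← I.ker_subschemeι_app ⟨V, hV⟩] at this
    exact this
  · intro h
    rw [killed_iff]
    intro x hx
    obtain ⟨_, ⟨V, hV, rfl⟩, hxV, hVU⟩ := X.isBasis_affineOpens.exists_subset_of_mem_open hx U.isOpen
    have hVU' : V ≤ U := hVU
    have : X.presheaf.map (homOfLE hVU').op s ∈ RingHom.ker (I.subschemeι.app V).hom :=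
      hres V hVU' h
    rw [I.ker_subschemeι_app ⟨V, hV⟩] at this
    have h2 := (killed_iff i V _).mp this x hxV
    rwa [germX_res] at h2

lemma subschemeι_locallySurjective (I : X.IdealSheafData) :
    TopCat.Presheaf.IsLocallySurjective I.subschemeι.toLRSHom.c := by
  rw [TopCat.Presheaf.isLocallySurjective_iff]
  intro U t x hx
  obtain ⟨_, ⟨V, hV, rfl⟩, hxV, hVU⟩ := X.isBasis_affineOpens.exists_subset_of_mem_open hx U.isOpen
  have hVU' : V ≤ U := hVU
  obtain ⟨a, ha⟩ := I.subschemeι_app_surjective ⟨V, hV⟩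
    (I.subscheme.presheaf.map (homOfLE (show I.subschemeι ⁻¹ᵁ V ≤ I.subschemeι ⁻¹ᵁ U from
      fun z hz => hVU' hz)).op t)
  exact ⟨V, hVU', ⟨a, ha⟩, hxV⟩

theorem exists_subscheme_iso (hi : LRSImm.IsClosedImmersion i) :
    ∃ e : (kerData i hi.2.2).subscheme.toLocallyRingedSpace ≅ Z,
      e.hom ≫ i = (kerData i hi.2.2).subschemeι.toLRSHom := by
  set I := kerData i hi.2.2
  have hcl : Topology.IsClosedEmbedding I.subschemeι.toLRSHom.base :=
    I.subschemeι.isClosedEmbedding
  have hs := subschemeι_locallySurjective I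
  obtain ⟨a, ha⟩ := exists_lift i hi.1 hi.2.1 I.subschemeι.toLRSHom
    fun U s h => (killed_iff_subschemeι hi.2.2 U s).mp h
  obtain ⟨b, hb⟩ := exists_lift I.subschemeι.toLRSHom hcl hs i
    fun U s h => (killed_iff_subschemeι hi.2.2 U s).mpr h
  refine ⟨⟨a, b, lift_unique _ hcl hs ?_, lift_unique i hi.1 hi.2.1 ?_⟩, ha⟩
  · rw [Category.assoc, hb, ha, Category.id_comp]
  · rw [Category.assoc, ha, hb, Category.id_comp]

end Groth.Agent.LRSImmLib
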